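import Groth.Agent.Lib.Helper18.TameDiff.Dedekind
import Mathlib.RingTheory.DedekindDomain.Different
import Mathlib.RingTheory.RamificationInertia.Ramification

/-! # The different of a tamely ramified extension of discrete valuation rings -/

set_option autoImplicit false

attribute [local instance] FractionRing.liftAlgebra FractionRing.isScalarTower_liftAlgebra

namespace Groth.Agent.Lib.Helper18.TameDiff

open IsLocalRing nonZeroDivisors

section DVR

variable {B : Type*} [CommRing B] [IsDomain B] [IsDiscreteValuationRing B]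

theorem exists_pow_eq (J : Ideal B) (hJ : J ≠ ⊥) : ∃ n : ℕ, J = maximalIdeal B ^ n := by
  obtain ⟨ϖ, hϖ⟩ := IsDiscreteValuationRing.exists_irreducible B
  obtain ⟨n, hn⟩ := IsDiscreteValuationRing.ideal_eq_span_pow_irreducible hJ hϖ
  exact ⟨n, by rw [hn, hϖ.maximalIdeal_eq, Ideal.span_singleton_pow]⟩

theorem maxIdeal_pow_dvd_pow_iff (m n : ℕ) :
    maximalIdeal B ^ m ∣ maximalIdeal B ^ n ↔ m ≤ n := by
  refine pow_dvd_pow_iff (IsDiscreteValuationRing.not_a_field B) ?_
  rw [Ideal.isUnit_iff]
  exact (maximalIdeal.isMaximal B).ne_top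

end DVR

section Different

variable (A B : Type*) [CommRing A] [IsDomain A] [IsDiscreteValuationRing A]
  [CommRing B] [IsDedekindDomain B] [Algebra A B] [Module.Finite A B] [Module.IsTorsionFree A B]
  [Algebra.IsSeparable (FractionRing A) (FractionRing B)]

theorem different_le_map_of_intTrace_mem
    (h : ∀ x : B, Algebra.intTrace A B x ∈ maximalIdeal A) :
    differentIdeal A B ≤ (maximalIdeal A).map (algebraMap A B) := by
  obtain ⟨π, hπ⟩ := IsDiscreteValuationRing.exists_irreducible A
  have hp : maximalIdeal A = Ideal.span {π} := hπ.maximalIdeal_eq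
  have hmap : (maximalIdeal A).map (algebraMap A B) = Ideal.span {algebraMap A B π} := by
    rw [hp, Ideal.map_span, Set.image_singleton]
  have hπ0 : algebraMap A B π ≠ 0 := by
    rw [Ne, map_eq_zero_iff _ (FaithfulSMul.algebraMap_injective A B)]
    exact hπ.ne_zero
  have hI : Ideal.span {algebraMap A B π} ≠ ⊥ := by
    rw [Ne, Ideal.span_singleton_eq_bot]
    exact hπ0
  rw [hmap, differentialIdeal_le_iff (K := FractionRing A) (L := FractionRing B) hI,
    FractionalIdeal.coeIdeal_span_singleton, FractionalIdeal.spanSingleton_inv]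
  rintro _ ⟨z, hz, rfl⟩
  have hz' : z ∈ FractionalIdeal.spanSingleton B⁰
      ((algebraMap B (FractionRing B)) ((algebraMap A B) π))⁻¹ := hz
  obtain ⟨b, rfl⟩ := (FractionalIdeal.mem_spanSingleton _).1 hz'
  obtain ⟨a', ha'⟩ := Ideal.mem_span_singleton'.1 (hp ▸ h b)
  show Algebra.trace (FractionRing A) (FractionRing B) _ ∈ (1 : Submodule A (FractionRing A))
  rw [Submodule.mem_one]
  refine ⟨a', ?_⟩
  have hπK : algebraMap A (FractionRing A) π ≠ 0 := by
    rw [Ne, map_eq_zero_iff _ (IsFractionRing.injective A (FractionRing A))]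
    exact hπ.ne_zero
  have e1 : b • ((algebraMap B (FractionRing B)) ((algebraMap A B) π))⁻¹ =
      (algebraMap A (FractionRing A) π)⁻¹ • algebraMap B (FractionRing B) b := by
    rw [Algebra.smul_def, Algebra.smul_def, map_inv₀,
      ← IsScalarTower.algebraMap_apply A (FractionRing A) (FractionRing B),
      ← IsScalarTower.algebraMap_apply A B (FractionRing B), mul_comm]
  rw [e1, map_smul, ← Algebra.algebraMap_intTrace (A := A), ← ha', map_mul, smul_eq_mul,
    mul_comm (algebraMap A (FractionRing A) a'), ← mul_assoc, inv_mul_cancel₀ hπK, one_mul]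

end Different

section Main

variable (A B : Type*) [CommRing A] [IsDomain A] [IsDiscreteValuationRing A]
  [CommRing B] [IsDomain B] [IsDiscreteValuationRing B] [Algebra A B] [Module.Finite A B]
  [Module.IsTorsionFree A B] [IsLocalHom (algebraMap A B)]

theorem map_maximalIdeal_eq_pow :
    (maximalIdeal A).map (algebraMap A B) =
      maximalIdeal B ^ (maximalIdeal B).ramificationIdx A ∧ (maximalIdeal B).ramificationIdx A ≠ 0 := by
  have hp : maximalIdeal A ≠ ⊥ := IsDiscreteValuationRing.not_a_field A
  have hP : maximalIdeal B ≠ ⊥ := IsDiscreteValuationRing.not_a_field B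
  obtain ⟨m, hm⟩ := exists_pow_eq ((maximalIdeal A).map (algebraMap A B))
    (Ideal.map_ne_bot_of_ne_bot hp)
  have he : (maximalIdeal B).ramificationIdx A = m := by
    rw [← Ideal.ramificationIdx'_eq_ramificationIdx (maximalIdeal A) (maximalIdeal B) hp]
    refine Ideal.ramificationIdx'_spec hm.le ?_
    rw [hm]
    exact not_le_of_gt (Ideal.pow_succ_lt_pow hP m)
  rw [he]
  refine ⟨hm, ?_⟩
  rintro rfl
  rw [pow_zero, Ideal.one_eq_top] at hm
  have h1 : (maximalIdeal A).map (algebraMap A B) ≤ maximalIdeal B := by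
    rw [Ideal.map_le_iff_le_comap, IsLocalRing.maximalIdeal_comap]
  rw [hm] at h1
  exact (maximalIdeal.isMaximal B).ne_top (top_le_iff.1 h1)

variable [Algebra.IsSeparable (FractionRing A) (FractionRing B)]

set_option maxHeartbeats 1000000 in
theorem pow_ramificationIdx_dvd_different_iff :
    maximalIdeal B ^ (maximalIdeal B).ramificationIdx A ∣ differentIdeal A B ↔
      ¬ (Algebra.IsSeparable (A ⧸ maximalIdeal A) (B ⧸ maximalIdeal B) ∧
        (((maximalIdeal B).ramificationIdx A : ℕ) : A ⧸ maximalIdeal A) ≠ 0) := by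
  letI : Field (A ⧸ maximalIdeal A) := Ideal.Quotient.field _
  letI : Field (B ⧸ maximalIdeal B) := Ideal.Quotient.field _
  obtain ⟨hmap, he0⟩ := map_maximalIdeal_eq_pow A B
  set e := (maximalIdeal B).ramificationIdx A with he
  have hP : maximalIdeal B ≠ ⊥ := IsDiscreteValuationRing.not_a_field B
  have htr : ∀ x : B, Ideal.Quotient.mk (maximalIdeal A) (Algebra.intTrace A B x) =
      e • Algebra.trace (A ⧸ maximalIdeal A) (B ⧸ maximalIdeal B) (Ideal.Quotient.mk _ x) := by
    intro x
    rw [← Algebra.trace_quotient_eq_of_isDedekindDomain]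
    exact trace_quot_pow_dedekind (maximalIdeal A) (maximalIdeal B) hP _ e hmap x
  have h1 : maximalIdeal B ^ e ∣ differentIdeal A B ↔
      ∀ x : B, Algebra.intTrace A B x ∈ maximalIdeal A := by
    constructor
    · intro hdvd x
      by_contra hx
      exact not_dvd_differentIdeal_of_intTrace_not_mem A (maximalIdeal B ^ e) ⊤
        (by rw [Ideal.mul_top, hmap]) x Submodule.mem_top hx hdvd
    · intro h
      rw [Ideal.dvd_iff_le, ← hmap]
      exact different_le_map_of_intTrace_mem A B h
  rw [h1]
  simp only [← Ideal.Quotient.eq_zero_iff_mem, htr, nsmul_eq_mul, mul_eq_zero]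
  constructor
  · rintro h ⟨hsep, hne⟩
    have h2 : ∀ x : B ⧸ maximalIdeal B,
        Algebra.trace (A ⧸ maximalIdeal A) (B ⧸ maximalIdeal B) x = 0 := by
      intro x
      obtain ⟨x, rfl⟩ := Ideal.Quotient.mk_surjective x
      exact (h x).resolve_left hne
    exact Algebra.trace_ne_zero (A ⧸ maximalIdeal A) (B ⧸ maximalIdeal B)
      (LinearMap.ext fun x => by simpa using h2 x)
  · intro h x
    by_cases hne : ((e : ℕ) : A ⧸ maximalIdeal A) = 0
    · exact Or.inl hne
    · right
      have hsep : ¬ Algebra.IsSeparable (A ⧸ maximalIdeal A) (B ⧸ maximalIdeal B) :=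
        fun hs => h ⟨hs, hne⟩
      rw [Algebra.trace_eq_zero_of_not_isSeparable hsep, LinearMap.zero_apply]

theorem different_eq_pow_iff :
    differentIdeal A B = maximalIdeal B ^ ((maximalIdeal B).ramificationIdx A - 1) ↔
      (Algebra.IsSeparable (A ⧸ maximalIdeal A) (B ⧸ maximalIdeal B) ∧
        (((maximalIdeal B).ramificationIdx A : ℕ) : A ⧸ maximalIdeal A) ≠ 0) := by
  obtain ⟨hmap, he0⟩ := map_maximalIdeal_eq_pow A B
  have hp : maximalIdeal A ≠ ⊥ := IsDiscreteValuationRing.not_a_field A
  obtain ⟨d, hd⟩ := exists_pow_eq (differentIdeal A B) differentIdeal_ne_bot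
  have h1 : maximalIdeal B ^ ((maximalIdeal B).ramificationIdx A - 1) ∣ differentIdeal A B :=
    pow_sub_one_dvd_differentIdeal A (maximalIdeal B) _ hp (by rw [hmap])
  have h2 := pow_ramificationIdx_dvd_different_iff A B
  rw [hd, maxIdeal_pow_dvd_pow_iff] at h1 h2
  rw [← not_iff_not, ← h2, hd]
  constructor
  · intro hne
    by_contra hlt
    apply hne
    congr 1
    omega
  · intro hle heq
    have := (maxIdeal_pow_dvd_pow_iff (B := B) d ((maximalIdeal B).ramificationIdx A - 1)).1
      (by rw [heq])
    omega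

end Main

end Groth.Agent.Lib.Helper18.TameDiff
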