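import Groth.Agent.Lib.Helper18.TameDiff.Filt
import Mathlib.RingTheory.Ideal.Norm.AbsNorm

/-! # Trace on `B/Q^e` for a prime `Q` of a Dedekind domain -/

set_option autoImplicit false

namespace Groth.Agent.Lib.Helper18.TameDiff

variable {A B : Type*} [CommRing A] [CommRing B] [Algebra A B] [IsDedekindDomain B]

set_option maxHeartbeats 1000000 in
theorem trace_quot_pow_dedekind (p : Ideal A) [p.IsMaximal] (Q : Ideal B) [Q.IsPrime] (hQ : Q ≠ ⊥)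
    (I : Ideal B) (e : ℕ) (hI : I = Q ^ e)
    [Algebra (A ⧸ p) (B ⧸ I)] [IsScalarTower A (A ⧸ p) (B ⧸ I)] [Module.Finite (A ⧸ p) (B ⧸ I)]
    [Algebra (A ⧸ p) (B ⧸ Q)] [IsScalarTower A (A ⧸ p) (B ⧸ Q)] (y : B) :
    Algebra.trace (A ⧸ p) (B ⧸ I) (Ideal.Quotient.mk I y) =
      e • Algebra.trace (A ⧸ p) (B ⧸ Q) (Ideal.Quotient.mk Q y) := by
  letI : Field (A ⧸ p) := Ideal.Quotient.field p
  rcases Nat.eq_zero_or_pos e with rfl | he
  · have h1 : I = ⊤ := by rw [hI, pow_zero, Ideal.one_eq_top]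
    haveI : Subsingleton (B ⧸ I) := Ideal.Quotient.subsingleton_iff.2 h1
    rw [Subsingleton.elim (Ideal.Quotient.mk I y) 0, map_zero, zero_smul]
  have hIQ : I ≤ Q := by
    rw [hI]
    exact Ideal.pow_le_self (by omega)
  have H : ∀ n < e, ∃ a ∈ Q ^ n, (∀ y, a * y ∈ Q ^ (n + 1) → y ∈ Q) ∧
      ∀ c ∈ Q ^ n, ∃ d, c - a * d ∈ Q ^ (n + 1) := by
    intro n _
    obtain ⟨a, ha, ha'⟩ := SetLike.exists_of_lt (Ideal.pow_succ_lt_pow hQ n)
    refine ⟨a, ha, fun y hy => Ideal.mem_prime_of_mul_mem_pow hQ ha' hy, fun c hc => ?_⟩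
    obtain ⟨d, e', he', hde⟩ := Ideal.exists_mul_add_mem_pow_succ hQ a c ha ha' hc
    refine ⟨d, ?_⟩
    rw [← hde, add_sub_cancel_left]
    exact he'
  rw [trace_quot_pow (k := A ⧸ p) e hI H y]
  congr 1
  have h1 : (Q ^ 1).map (Ideal.Quotient.mk I) = Q.map (Ideal.Quotient.mk I) := by rw [pow_one]
  let ρ : Mq I Q 1 ≃+* B ⧸ Q :=
    (Ideal.quotEquivOfEq h1).trans (DoubleQuot.quotQuotEquivQuotOfLE hIQ)
  have hρ : ∀ z : B, ρ (Ideal.Quotient.mk _ (Ideal.Quotient.mk I z)) = Ideal.Quotient.mk Q z :=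
    fun z => rfl
  have he : RingHom.comp (algebraMap (A ⧸ p) (B ⧸ Q)) ((RingEquiv.refl (A ⧸ p) : (A ⧸ p) →+* (A ⧸ p))) =
      RingHom.comp (ρ : Mq I Q 1 →+* B ⧸ Q) (algebraMap (A ⧸ p) (Mq I Q 1)) := by
    apply Ideal.Quotient.ringHom_ext
    ext a
    simp only [RingHom.comp_apply]
    show algebraMap (A ⧸ p) (B ⧸ Q) (algebraMap A (A ⧸ p) a) =
      ρ (Ideal.Quotient.mk _ (algebraMap (A ⧸ p) (B ⧸ I) (algebraMap A (A ⧸ p) a)))
    rw [← IsScalarTower.algebraMap_apply A (A ⧸ p) (B ⧸ Q),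
      ← IsScalarTower.algebraMap_apply A (A ⧸ p) (B ⧸ I)]
    exact (hρ (algebraMap A B a)).symm
  have := Algebra.trace_eq_of_equiv_equiv (RingEquiv.refl (A ⧸ p)) ρ he
    (Ideal.Quotient.mk _ (Ideal.Quotient.mk I y))
  rw [this, hρ]
  rfl

end Groth.Agent.Lib.Helper18.TameDiff
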