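import Groth.Agent.Lib.Helper18.TameDiff.TraceExact
import Mathlib.RingTheory.Trace.Basic
import Mathlib.RingTheory.Ideal.Quotient.Operations

/-! # The trace on `B/Q^e` is `e` times the trace on `B/Q` -/

set_option autoImplicit false

namespace Groth.Agent.Lib.Helper18.TameDiff

open LinearMap

variable {B : Type*} [CommRing B] (I Q : Ideal B) {k : Type*} [Field k] [Algebra k (B ⧸ I)]

/-- The quotient of `B/I` by the image of `Q^n`. -/
abbrev Mq (n : ℕ) : Type _ := (B ⧸ I) ⧸ (Q ^ n).map (Ideal.Quotient.mk I)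

variable {I Q}

theorem mk_mk_eq_zero_iff {n : ℕ} (hn : I ≤ Q ^ n) (y : B) :
    (Ideal.Quotient.mk ((Q ^ n).map (Ideal.Quotient.mk I)) (Ideal.Quotient.mk I y) : Mq I Q n) = 0 ↔
      y ∈ Q ^ n := by
  rw [Ideal.Quotient.eq_zero_iff_mem, Ideal.mem_quotient_iff_mem hn]

theorem mk_mk_surjective (n : ℕ) (v : Mq I Q n) :
    ∃ y : B, Ideal.Quotient.mk ((Q ^ n).map (Ideal.Quotient.mk I)) (Ideal.Quotient.mk I y) = v := by
  obtain ⟨v', rfl⟩ := Ideal.Quotient.mk_surjective v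
  obtain ⟨y, rfl⟩ := Ideal.Quotient.mk_surjective v'
  exact ⟨y, rfl⟩

variable [FiniteDimensional k (B ⧸ I)]

instance (n : ℕ) : FiniteDimensional k (Mq I Q n) :=
  Module.Finite.of_surjective (Ideal.Quotient.mkₐ k ((Q ^ n).map (Ideal.Quotient.mk I))).toLinearMap
    (Ideal.Quotient.mkₐ_surjective k _)

set_option maxHeartbeats 1000000 in
theorem trace_step {n : ℕ} (hn : I ≤ Q ^ (n + 1)) (a : B) (ha : a ∈ Q ^ n)
    (ha1 : ∀ y, a * y ∈ Q ^ (n + 1) → y ∈ Q) (ha2 : ∀ c ∈ Q ^ n, ∃ d, c - a * d ∈ Q ^ (n + 1))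
    (x : B) :
    Algebra.trace k (Mq I Q (n + 1)) (Ideal.Quotient.mk _ (Ideal.Quotient.mk I x)) =
      Algebra.trace k (Mq I Q 1) (Ideal.Quotient.mk _ (Ideal.Quotient.mk I x)) +
      Algebra.trace k (Mq I Q n) (Ideal.Quotient.mk _ (Ideal.Quotient.mk I x)) := by
  have hn1 : I ≤ Q ^ 1 := hn.trans (Ideal.pow_le_pow_right (by omega))
  have hn0 : I ≤ Q ^ n := hn.trans (Ideal.pow_le_pow_right (by omega))
  have hmap : (Q ^ 1).map (Ideal.Quotient.mk I) ≤
      Submodule.comap (LinearMap.mulLeft (B ⧸ I) (Ideal.Quotient.mk I a))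
        ((Q ^ (n + 1)).map (Ideal.Quotient.mk I)) := by
    intro v hv
    obtain ⟨y, rfl⟩ := Ideal.Quotient.mk_surjective v
    rw [Ideal.mem_quotient_iff_mem hn1] at hv
    show Ideal.Quotient.mk I a * Ideal.Quotient.mk I y ∈ (Q ^ (n + 1)).map (Ideal.Quotient.mk I)
    rw [← map_mul, Ideal.mem_quotient_iff_mem hn, pow_succ]
    exact Ideal.mul_mem_mul ha (by simpa using hv)
  let i₀ : Mq I Q 1 →ₗ[B ⧸ I] Mq I Q (n + 1) :=
    Submodule.mapQ _ _ (LinearMap.mulLeft (B ⧸ I) (Ideal.Quotient.mk I a)) hmap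
  let i : Mq I Q 1 →ₗ[k] Mq I Q (n + 1) := i₀.restrictScalars k
  have hi_mk : ∀ y : B, i (Ideal.Quotient.mk _ (Ideal.Quotient.mk I y)) =
      Ideal.Quotient.mk _ (Ideal.Quotient.mk I (a * y)) := by
    intro y
    show i₀ (Submodule.Quotient.mk (Ideal.Quotient.mk I y)) = _
    rw [Submodule.mapQ_apply, LinearMap.mulLeft_apply, ← map_mul]
    rfl
  have hle : (Q ^ (n + 1)).map (Ideal.Quotient.mk I) ≤ (Q ^ n).map (Ideal.Quotient.mk I) :=
    Ideal.map_mono (Ideal.pow_le_pow_right (by omega))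
  let q : Mq I Q (n + 1) →ₗ[k] Mq I Q n := (Ideal.Quotient.factorₐ k hle).toLinearMap
  have hq_mk : ∀ y : B, q (Ideal.Quotient.mk _ (Ideal.Quotient.mk I y)) =
      Ideal.Quotient.mk _ (Ideal.Quotient.mk I y) := fun y => rfl
  have hi : Function.Injective i := by
    rw [injective_iff_map_eq_zero]
    intro v hv
    obtain ⟨y, rfl⟩ := mk_mk_surjective 1 v
    rw [hi_mk, mk_mk_eq_zero_iff hn] at hv
    rw [mk_mk_eq_zero_iff hn1, pow_one]
    exact ha1 y hv
  have hq : Function.Surjective q := Ideal.Quotient.factor_surjective hle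
  have hex : LinearMap.ker q = LinearMap.range i := by
    ext v
    obtain ⟨y, rfl⟩ := mk_mk_surjective (n + 1) v
    rw [LinearMap.mem_ker, hq_mk, mk_mk_eq_zero_iff hn0]
    constructor
    · intro hy
      obtain ⟨d, hd⟩ := ha2 y hy
      refine ⟨Ideal.Quotient.mk _ (Ideal.Quotient.mk I d), ?_⟩
      rw [hi_mk, eq_comm, ← sub_eq_zero, ← map_sub, ← map_sub, mk_mk_eq_zero_iff hn]
      exact hd
    · rintro ⟨v', hv'⟩
      obtain ⟨d, rfl⟩ := mk_mk_surjective 1 v'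
      rw [hi_mk, ← sub_eq_zero, ← map_sub, ← map_sub, mk_mk_eq_zero_iff hn] at hv'
      have h1 : a * d ∈ Q ^ n := Ideal.mul_mem_right _ _ ha
      have h2 : a * d - y ∈ Q ^ n := Ideal.pow_le_pow_right (by omega) hv'
      have h3 : y = a * d - (a * d - y) := by ring
      rw [h3]
      exact Ideal.sub_mem _ h1 h2
  simp only [Algebra.trace_apply]
  refine trace_exact i q hi hq hex _ _ _ ?_ ?_
  · intro v'
    obtain ⟨y, rfl⟩ := mk_mk_surjective 1 v'
    show i (Ideal.Quotient.mk _ (Ideal.Quotient.mk I x) *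
      Ideal.Quotient.mk _ (Ideal.Quotient.mk I y)) = Ideal.Quotient.mk _ (Ideal.Quotient.mk I x) *
      i (Ideal.Quotient.mk _ (Ideal.Quotient.mk I y))
    rw [← map_mul, ← map_mul, hi_mk, hi_mk, ← map_mul, ← map_mul]
    congr 2
    ring
  · intro v
    obtain ⟨y, rfl⟩ := mk_mk_surjective (n + 1) v
    show q (Ideal.Quotient.mk _ (Ideal.Quotient.mk I x) *
      Ideal.Quotient.mk _ (Ideal.Quotient.mk I y)) = Ideal.Quotient.mk _ (Ideal.Quotient.mk I x) *
      q (Ideal.Quotient.mk _ (Ideal.Quotient.mk I y))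
    rw [← map_mul, ← map_mul, hq_mk, hq_mk, ← map_mul, ← map_mul]

omit [FiniteDimensional k (B ⧸ I)] in
theorem trace_Mq_zero (x : B) :
    Algebra.trace k (Mq I Q 0) (Ideal.Quotient.mk _ (Ideal.Quotient.mk I x)) = 0 := by
  have h1 : (Q ^ 0).map (Ideal.Quotient.mk I) = ⊤ := by
    rw [pow_zero, Ideal.one_eq_top]
    exact Ideal.map_top _
  haveI : Subsingleton (Mq I Q 0) := Ideal.Quotient.subsingleton_iff.2 h1
  rw [Subsingleton.elim (Ideal.Quotient.mk _ (Ideal.Quotient.mk I x) : Mq I Q 0) 0, map_zero]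

omit [FiniteDimensional k (B ⧸ I)] in
theorem trace_Mq_top {e : ℕ} (hI : I = Q ^ e) (x : B) :
    Algebra.trace k (Mq I Q e) (Ideal.Quotient.mk _ (Ideal.Quotient.mk I x)) =
      Algebra.trace k (B ⧸ I) (Ideal.Quotient.mk I x) := by
  have h1 : (Q ^ e).map (Ideal.Quotient.mk I) = ⊥ := by
    rw [← hI]
    exact Ideal.map_quotient_self I
  have hinj : Function.Injective
      (Ideal.Quotient.mkₐ k ((Q ^ e).map (Ideal.Quotient.mk I))).toLinearMap := by
    rw [injective_iff_map_eq_zero]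
    intro v hv
    have h2 : v ∈ (Q ^ e).map (Ideal.Quotient.mk I) := Ideal.Quotient.eq_zero_iff_mem.1 hv
    rw [h1] at h2
    exact h2
  let φ : (B ⧸ I) ≃ₗ[k] Mq I Q e := LinearEquiv.ofBijective
    (Ideal.Quotient.mkₐ k ((Q ^ e).map (Ideal.Quotient.mk I))).toLinearMap
    ⟨hinj, Ideal.Quotient.mkₐ_surjective k _⟩
  simp only [Algebra.trace_apply]
  symm
  refine trace_eq_of_equiv φ _ _ ?_
  intro v
  show Ideal.Quotient.mk _ (Ideal.Quotient.mk I x * v) =
    Ideal.Quotient.mk _ (Ideal.Quotient.mk I x) * Ideal.Quotient.mk _ v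
  rw [map_mul]

theorem trace_quot_pow (e : ℕ) (hI : I = Q ^ e)
    (H : ∀ n < e, ∃ a ∈ Q ^ n, (∀ y, a * y ∈ Q ^ (n + 1) → y ∈ Q) ∧
      ∀ c ∈ Q ^ n, ∃ d, c - a * d ∈ Q ^ (n + 1)) (x : B) :
    Algebra.trace k (B ⧸ I) (Ideal.Quotient.mk I x) =
      e • Algebra.trace k (Mq I Q 1) (Ideal.Quotient.mk _ (Ideal.Quotient.mk I x)) := by
  have key : ∀ n ≤ e, Algebra.trace k (Mq I Q n) (Ideal.Quotient.mk _ (Ideal.Quotient.mk I x)) =
      n • Algebra.trace k (Mq I Q 1) (Ideal.Quotient.mk _ (Ideal.Quotient.mk I x)) := by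
    intro n
    induction n with
    | zero =>
      intro _
      rw [trace_Mq_zero, zero_smul]
    | succ n ih =>
      intro hn
      obtain ⟨a, ha, ha1, ha2⟩ := H n (by omega)
      have hIn : I ≤ Q ^ (n + 1) := by
        rw [hI]
        exact Ideal.pow_le_pow_right hn
      rw [trace_step hIn a ha ha1 ha2 x, ih (by omega), succ_nsmul, add_comm]
  rw [← trace_Mq_top hI x, key e le_rfl]

end Groth.Agent.Lib.Helper18.TameDiff
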