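import Groth.Agent.Lib.Helper18.TameDiff.Dedekind
import Mathlib.RingTheory.Trace.Quotient
import Mathlib.RingTheory.RamificationInertia.Ramification
import Mathlib.NumberTheory.RamificationInertia.Basic
import Mathlib.LinearAlgebra.StdBasis

/-! # The trace modulo a prime as a sum over the primes above -/

set_option autoImplicit false
set_option linter.deprecated false

namespace Groth.Agent.Lib.Helper18.TameDiff

open LinearMap Ideal UniqueFactorizationMonoid

section Pi

variable {k : Type*} [Field k] {ι : Type*} [Fintype ι] [DecidableEq ι] {M : ι → Type*}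
  [∀ i, AddCommGroup (M i)] [∀ i, Module k (M i)] [∀ i, FiniteDimensional k (M i)]

theorem trace_pi (T : ∀ i, M i →ₗ[k] M i) :
    trace k (∀ i, M i) (LinearMap.pi fun i => T i ∘ₗ LinearMap.proj i) =
      ∑ i, trace k (M i) (T i) := by
  classical
  let b : ∀ i, Module.Basis (Module.Free.ChooseBasisIndex k (M i)) k (M i) :=
    fun i => Module.Free.chooseBasis k (M i)
  rw [trace_eq_matrix_trace k (Pi.basis b), Matrix.trace, Fintype.sum_sigma]
  refine Finset.sum_congr rfl fun i _ => ?_
  rw [trace_eq_matrix_trace k (b i), Matrix.trace]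
  refine Finset.sum_congr rfl fun j _ => ?_
  rw [Matrix.diag_apply, Matrix.diag_apply, LinearMap.toMatrix_apply, LinearMap.toMatrix_apply,
    Pi.basis_repr, Pi.basis_apply]
  simp only [LinearMap.pi_apply, LinearMap.comp_apply, LinearMap.proj_apply, Pi.single_eq_same]

end Pi

section Global

attribute [local instance] FractionRing.liftAlgebra

variable (A B : Type*) [CommRing A] [CommRing B] [IsDedekindDomain A] [IsDedekindDomain B]
  [Algebra A B] [Module.Finite A B] [Module.IsTorsionFree A B]

set_option maxHeartbeats 2000000 in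
theorem intTrace_mk_eq_finsum (p : Ideal A) [p.IsMaximal] (hp : p ≠ ⊥) (y : B) :
    Ideal.Quotient.mk p (Algebra.intTrace A B y) =
      ∑ᶠ Q : p.primesOver B,
        Q.1.ramificationIdx A •
          Algebra.trace (A ⧸ p) (B ⧸ Q.1) (Ideal.Quotient.mk Q.1 y) := by
  classical
  letI : Field (A ⧸ p) := Ideal.Quotient.field p
  have hpB : p.map (algebraMap A B) ≠ ⊥ := Ideal.map_ne_bot_of_ne_bot hp
  rw [← Algebra.trace_quotient_eq_of_isDedekindDomain]
  let φ := Factors.piQuotientLinearEquiv B p hpB
  have h1 : Algebra.trace (A ⧸ p) (B ⧸ p.map (algebraMap A B)) (Ideal.Quotient.mk _ y) =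
      ∑ P : (factors (p.map (algebraMap A B))).toFinset,
        Algebra.trace (A ⧸ p) (B ⧸ (P : Ideal B) ^ ramificationIdx' p P.1)
          (Ideal.Quotient.mk _ y) := by
    simp only [Algebra.trace_apply]
    rw [← trace_pi]
    refine trace_eq_of_equiv φ _ _ ?_
    intro v
    obtain ⟨z, rfl⟩ := Ideal.Quotient.mk_surjective v
    ext P
    rfl
  rw [h1]
  -- the summand as a function of the ideal
  let g : Ideal B → A ⧸ p := fun Q =>
    if h : Q ∈ p.primesOver B then
      (haveI : Q.LiesOver p := h.2
       Q.ramificationIdx A • Algebra.trace (A ⧸ p) (B ⧸ Q) (Ideal.Quotient.mk Q y))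
    else 0
  have hg1 : ∀ P : (factors (p.map (algebraMap A B))).toFinset,
      Algebra.trace (A ⧸ p) (B ⧸ (P : Ideal B) ^ ramificationIdx' p P.1)
          (Ideal.Quotient.mk _ y) = g P.1 := by
    intro P
    have hP : P.1 ∈ p.primesOver B :=
      (IsDedekindDomain.mem_primesOverFinset_iff hp B).1 P.2
    haveI : P.1.IsPrime := hP.1
    haveI : P.1.LiesOver p := hP.2
    have hP0 : P.1 ≠ ⊥ := Factors.ne_bot p P
    haveI : IsScalarTower A (A ⧸ p) (B ⧸ (P : Ideal B) ^ ramificationIdx' p P.1) :=
      IsScalarTower.of_algebraMap_eq' rfl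
    haveI : Module.Finite (A ⧸ p) (B ⧸ (P : Ideal B) ^ ramificationIdx' p P.1) :=
      Module.Finite.of_restrictScalars_finite A _ _
    show _ = dite _ _ _
    rw [dif_pos hP, ← Ideal.ramificationIdx'_eq_ramificationIdx p P.1 hp]
    exact trace_quot_pow_dedekind p P.1 hP0 _ _ rfl y
  have hg2 : ∀ Q : p.primesOver B, Q.1.ramificationIdx A •
      Algebra.trace (A ⧸ p) (B ⧸ Q.1) (Ideal.Quotient.mk Q.1 y) = g Q.1 := by
    intro Q
    show _ = dite _ _ _
    rw [dif_pos Q.2]
  simp only [hg1, hg2]
  rw [finsum_set_coe_eq_finsum_mem (p.primesOver B) (f := g),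
    ← IsDedekindDomain.coe_primesOverFinset hp B, finsum_mem_coe_finset]
  exact Finset.sum_coe_sort (IsDedekindDomain.primesOverFinset p B) g

end Global

end Groth.Agent.Lib.Helper18.TameDiff
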