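import Mathlib.LinearAlgebra.Trace
import Mathlib.LinearAlgebra.Projection
import Mathlib.LinearAlgebra.Isomorphisms
import Mathlib.LinearAlgebra.FiniteDimensional.Lemmas

/-! # Additivity of the trace along short exact sequences of finite-dimensional vector spaces -/

set_option autoImplicit false

namespace Groth.Agent.Lib.Helper18.TameDiff

open LinearMap

variable {k : Type*} [Field k]

theorem trace_eq_of_equiv {V₁ V₂ : Type*} [AddCommGroup V₁] [Module k V₁] [AddCommGroup V₂]
    [Module k V₂] (φ : V₁ ≃ₗ[k] V₂) (T₁ : V₁ →ₗ[k] V₁) (T₂ : V₂ →ₗ[k] V₂)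
    (h : ∀ v, φ (T₁ v) = T₂ (φ v)) : trace k V₁ T₁ = trace k V₂ T₂ := by
  have : T₂ = φ.conj T₁ := by
    ext v
    rw [LinearEquiv.conj_apply_apply, h, φ.apply_symm_apply]
  rw [this, trace_conj']

theorem trace_sub_quot {V : Type*} [AddCommGroup V] [Module k V] [FiniteDimensional k V]
    (T : V →ₗ[k] V) (W : Submodule k V) (hW : ∀ x ∈ W, T x ∈ W) :
    trace k V T = trace k W (T.restrict hW) +
      trace k (V ⧸ W) (W.mapQ W T (fun x hx => hW x hx)) := by
  obtain ⟨W', hc⟩ := Submodule.exists_isCompl W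
  let π₀ : V →ₗ[k] W := Submodule.linearProjOfIsCompl W W' hc
  let ι : W →ₗ[k] V := W.subtype
  have hπι : ∀ w : W, π₀ (ι w) = w := fun w => Submodule.linearProjOfIsCompl_apply_left hc w
  have hker : W ≤ LinearMap.ker (LinearMap.id - ι ∘ₗ π₀) := by
    intro w hw
    rw [LinearMap.mem_ker, LinearMap.sub_apply, LinearMap.id_apply, LinearMap.comp_apply]
    have := hπι ⟨w, hw⟩
    have h2 : ι (π₀ (ι ⟨w, hw⟩)) = ι ⟨w, hw⟩ := by rw [this]
    exact sub_eq_zero.2 h2.symm
  let s : V ⧸ W →ₗ[k] V := W.liftQ (LinearMap.id - ι ∘ₗ π₀) hker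
  have hs : ∀ v, s (W.mkQ v) = v - ι (π₀ v) := fun v => rfl
  have hqs : W.mkQ ∘ₗ s = LinearMap.id := by
    apply Submodule.linearMap_qext
    ext v
    simp only [LinearMap.comp_apply, LinearMap.id_apply, hs, map_sub]
    have : W.mkQ (ι (π₀ v)) = 0 := (Submodule.Quotient.mk_eq_zero W).2 (π₀ v).2
    rw [this, sub_zero]
  have h1 : T = ι ∘ₗ (π₀ ∘ₗ T) + s ∘ₗ (W.mapQ W T (fun x hx => hW x hx) ∘ₗ W.mkQ) := by
    ext v
    simp only [LinearMap.add_apply, LinearMap.comp_apply, Submodule.mapQ_apply,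
      Submodule.mkQ_apply]
    rw [← Submodule.mkQ_apply, hs]
    abel
  conv_lhs => rw [h1]
  rw [map_add, trace_comp_comm', trace_comp_comm' _ s]
  congr 1
  · congr 1
    ext w
    simp only [LinearMap.comp_apply, LinearMap.restrict_coe_apply]
    have : T (ι w) = ι ⟨T w, hW w w.2⟩ := rfl
    rw [this, hπι]
  · rw [LinearMap.comp_assoc, hqs, LinearMap.comp_id]

theorem trace_exact {V' V V'' : Type*} [AddCommGroup V'] [Module k V'] [AddCommGroup V]
    [Module k V] [AddCommGroup V''] [Module k V''] [FiniteDimensional k V]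
    (i : V' →ₗ[k] V) (q : V →ₗ[k] V'') (hi : Function.Injective i) (hq : Function.Surjective q)
    (hex : LinearMap.ker q = LinearMap.range i)
    (T' : V' →ₗ[k] V') (T : V →ₗ[k] V) (T'' : V'' →ₗ[k] V'')
    (h1 : ∀ v', i (T' v') = T (i v')) (h2 : ∀ v, q (T v) = T'' (q v)) :
    trace k V T = trace k V' T' + trace k V'' T'' := by
  have hW : ∀ x ∈ LinearMap.range i, T x ∈ LinearMap.range i := by
    rintro _ ⟨v', rfl⟩
    exact ⟨T' v', h1 v'⟩
  rw [trace_sub_quot T (LinearMap.range i) hW]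
  congr 1
  · symm
    exact trace_eq_of_equiv (LinearEquiv.ofInjective i hi) T' _ (fun v' => Subtype.ext (h1 v'))
  · let φ : (V ⧸ LinearMap.range i) ≃ₗ[k] V'' :=
      (Submodule.quotEquivOfEq _ (LinearMap.ker q) hex.symm).trans (q.quotKerEquivOfSurjective hq)
    refine trace_eq_of_equiv φ _ T'' ?_
    intro v
    induction v using Submodule.Quotient.induction_on with
    | H v =>
      simp only [φ, Submodule.mapQ_apply, LinearEquiv.trans_apply, Submodule.quotEquivOfEq_mk,
        LinearMap.quotKerEquivOfSurjective_apply_mk, h2]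

end Groth.Agent.Lib.Helper18.TameDiff
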